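import Groth.Agent.CohDerGen.FunctorialInj
import Mathlib

/-!
# Functorial embeddings of complexes factoring termwise through injectives
-/

set_option backward.isDefEq.respectTransparency false
set_option backward.defeqAttrib.useBackward true
set_option autoImplicit false
set_option linter.style.haveILetI false
set_option linter.unusedSectionVars false
set_option maxHeartbeats 800000

universe w v u

open CategoryTheory CategoryTheory.Limits CochainComplex CochainComplex.HomComplex

namespace Groth.Agent.CohDerGen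

section Abstract

variable {C : Type u} [Category.{v} C] [Abelian C]

theorem δ_cocone_snd {K L : CochainComplex C ℤ} (φ : K ⟶ L) :
    δ (-1) 0 (mappingCocone.snd φ) + Cochain.ofHom (mappingCocone.fst φ ≫ φ) = 0 := by
  ext p
  simp [mappingCocone.snd, mappingCocone.fst, Cochain.δ_leftShift _ (-1) _ 0 _ 1 (by lia),
    mappingCone.δ_snd, Cochain.leftShift_v (n := 1) _ _ _ _ p p _ (p + -1) (by lia)]

/-- functoriality of cocones -/
noncomputable def coconeMap {K L K' L' : CochainComplex C ℤ} (φ : K ⟶ L) (φ' : K' ⟶ L') (a : K ⟶ K') (b : L ⟶ L')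
    (w : φ ≫ b = a ≫ φ') : mappingCocone φ ⟶ mappingCocone φ' :=
  mappingCocone.lift φ' (mappingCocone.fst φ ≫ a) ((mappingCocone.snd φ).comp (Cochain.ofHom b) (add_zero (-1)))
    (by
      have h := congrArg (fun z => Cochain.comp z (Cochain.ofHom b) (add_zero (0 : ℤ))) (δ_cocone_snd φ)
      simp only [Cochain.add_comp, Cochain.zero_comp, ← Cochain.ofHom_comp, Category.assoc, w] at h
      rw [δ_comp_ofHom, Category.assoc]
      exact h)

theorem cocone_ext_to {K L : CochainComplex C ℤ} (φ : K ⟶ L) (p : ℤ) {A : C} {f g : A ⟶ (mappingCocone φ).X p}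
    (h₁ : f ≫ (mappingCocone.fst φ).f p = g ≫ (mappingCocone.fst φ).f p)
    (h₂ : f ≫ (mappingCocone.snd φ).v p (p + -1) rfl = g ≫ (mappingCocone.snd φ).v p (p + -1) rfl) : f = g := by
  rw [← Category.comp_id f, ← Category.comp_id g, ← mappingCocone.id_X φ p (p + -1) rfl, Preadditive.comp_add,
    Preadditive.comp_add, reassoc_of% h₁, reassoc_of% h₂]

theorem cocone_hom_ext {K L : CochainComplex C ℤ} (φ : K ⟶ L) {M : CochainComplex C ℤ}
    {f g : M ⟶ mappingCocone φ} (h₁ : f ≫ mappingCocone.fst φ = g ≫ mappingCocone.fst φ)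
    (h₂ : ∀ p : ℤ, f.f p ≫ (mappingCocone.snd φ).v p (p + -1) rfl = g.f p ≫ (mappingCocone.snd φ).v p (p + -1) rfl) :
    f = g := HomologicalComplex.hom_ext _ _ fun p =>
  cocone_ext_to φ p (HomologicalComplex.congr_hom h₁ p) (h₂ p)

theorem coconeMap_fst {K L K' L' : CochainComplex C ℤ} (φ : K ⟶ L) (φ' : K' ⟶ L') (a : K ⟶ K') (b : L ⟶ L')
    (w : φ ≫ b = a ≫ φ') : coconeMap φ φ' a b w ≫ mappingCocone.fst φ' = mappingCocone.fst φ ≫ a :=
  mappingCocone.lift_fst _ _ _ _

theorem coconeMap_snd {K L K' L' : CochainComplex C ℤ} (φ : K ⟶ L) (φ' : K' ⟶ L') (a : K ⟶ K') (b : L ⟶ L')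
    (w : φ ≫ b = a ≫ φ') (p : ℤ) : (coconeMap φ φ' a b w).f p ≫ (mappingCocone.snd φ').v p (p + -1) rfl =
      (mappingCocone.snd φ).v p (p + -1) rfl ≫ b.f (p + -1) := by
  simp [coconeMap]

theorem isZero_homology_cocone_id (L : CochainComplex C ℤ) (n : ℤ) : IsZero ((mappingCocone (𝟙 L)).homology n) := by
  have h : Homotopy (𝟙 (mappingCone (𝟙 L))) 0 :=
    mappingCone.liftHomotopy _ _ _ (mappingCone.snd _) 0 (by simp) (by simp)
  haveI hz : ∀ m, IsZero ((mappingCone (𝟙 L)).homology m) := fun m => by
    rw [IsZero.iff_id_eq_zero, ← HomologicalComplex.homologyMap_id, h.homologyMap_eq,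
      HomologicalComplex.homologyMap_zero]
  exact (hz _).of_iso (((HomologicalComplex.homologyFunctor C (ComplexShape.up ℤ) 0).shiftIso (-1) n (-1 + n) rfl).app
    (mappingCone (𝟙 L)))

variable {M D Q : CochainComplex C ℤ} (ψ : M ⟶ D) (π : D ⟶ Q) (w : ψ ≫ π = 0)

/-- the map to the cocone -/
noncomputable def toCocone : M ⟶ mappingCocone π :=
  mappingCocone.lift π ψ 0 (by rw [δ_zero, zero_add, w, Cochain.ofHom_zero])

/-- the comparison with the cocone of the identity -/
noncomputable def coconeProj : mappingCocone π ⟶ mappingCocone (𝟙 Q) :=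
  coconeMap π (𝟙 Q) π (𝟙 Q) rfl

theorem toCocone_fst (p : ℤ) : (toCocone ψ π w).f p ≫ (mappingCocone.fst π).f p = ψ.f p :=
  mappingCocone.lift_f_fst_f _ _ _ _ _

theorem toCocone_snd (p : ℤ) : (toCocone ψ π w).f p ≫ (mappingCocone.snd π).v p (p + -1) rfl = 0 := by
  simp [toCocone]

theorem toCocone_proj : toCocone ψ π w ≫ coconeProj π = 0 := by
  refine cocone_hom_ext _ ?_ fun p => ?_
  · rw [Category.assoc, coconeProj, coconeMap_fst, zero_comp]
    ext p
    rw [HomologicalComplex.comp_f, HomologicalComplex.comp_f, reassoc_of% toCocone_fst,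
      ← HomologicalComplex.comp_f, w]
  · rw [HomologicalComplex.comp_f, Category.assoc, coconeProj, coconeMap_snd, reassoc_of% toCocone_snd]
    simp

theorem mono_toCocone_f [∀ p, Mono (ψ.f p)] (p : ℤ) : Mono ((toCocone ψ π w).f p) :=
  mono_of_mono_fac (toCocone_fst ψ π w p)

theorem quasiIso_toCocone (hS : (ShortComplex.mk ψ π w).ShortExact) : QuasiIso (toCocone ψ π w) := by
  have hp : ∀ p, (ShortComplex.mk (ψ.f p) (π.f p) (by rw [← HomologicalComplex.comp_f, w]; rfl)).ShortExact :=
    fun p => hS.map_of_exact (HomologicalComplex.eval C (ComplexShape.up ℤ) p)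
  let T := ShortComplex.mk (toCocone ψ π w) (coconeProj π) (toCocone_proj ψ π w)
  have hT : T.ShortExact := HomologicalComplex.shortExact_of_degreewise_shortExact _ fun p => by
    haveI : ∀ p, Mono (ψ.f p) := fun p => (hp p).mono_f
    haveI := mono_toCocone_f ψ π w p
    haveI := (hp p).epi_g
    have hin₁ : (mappingCocone.inl π).v p p (add_zero p) ≫ (coconeProj π).f p =
        π.f p ≫ (mappingCocone.inl (𝟙 Q)).v p p (add_zero p) := by
      refine cocone_ext_to _ p ?_ ?_
      · rw [Category.assoc, Category.assoc, coconeProj, ← HomologicalComplex.comp_f, coconeMap_fst]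
        simp
      · rw [Category.assoc, Category.assoc, coconeProj, coconeMap_snd]
        simp
    have hin₂ : (mappingCocone.inr π).1.v (p + -1) p (by lia) ≫ (coconeProj π).f p =
        (mappingCocone.inr (𝟙 Q)).1.v (p + -1) p (by lia) := by
      refine cocone_ext_to _ p ?_ ?_
      · rw [Category.assoc, coconeProj, ← HomologicalComplex.comp_f, coconeMap_fst]
        simp
      · rw [Category.assoc, coconeProj, coconeMap_snd]
        simp
    haveI : Epi ((coconeProj π).f p) := Preadditive.epi_of_cancel_zero _ fun {A} a ha => by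
      have h1 : π.f p ≫ (mappingCocone.inl (𝟙 Q)).v p p (add_zero p) ≫ a = 0 := by
        rw [← reassoc_of% hin₁, ha, comp_zero]
      have h2 : (mappingCocone.inr (𝟙 Q)).1.v (p + -1) p (by lia) ≫ a = 0 := by
        rw [← hin₂, Category.assoc, ha, comp_zero]
      rw [← Category.id_comp a, ← mappingCocone.id_X (𝟙 Q) p (p + -1) rfl, Preadditive.add_comp, Category.assoc,
        Category.assoc, h2, comp_zero, add_zero]
      rw [(cancel_epi (π.f p)).1 (h1.trans comp_zero.symm), comp_zero]
    haveI : Mono (T.map (HomologicalComplex.eval C (ComplexShape.up ℤ) p)).f := mono_toCocone_f ψ π w p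
    haveI : Epi (T.map (HomologicalComplex.eval C (ComplexShape.up ℤ) p)).g := ‹Epi ((coconeProj π).f p)›
    refine ⟨ShortComplex.exact_of_f_is_kernel _ ?_⟩
    refine KernelFork.IsLimit.ofι' _ _ fun {A} k hk => ?_
    change A ⟶ (mappingCocone π).X p at k
    change k ≫ (coconeProj π).f p = 0 at hk
    have h1 : (k ≫ (mappingCocone.fst π).f p) ≫ π.f p = 0 := by
      have h := congrArg (· ≫ (mappingCocone.fst (𝟙 Q)).f p) hk
      simp only [Category.assoc, zero_comp, ← HomologicalComplex.comp_f, coconeProj, coconeMap_fst] at h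
      simpa using h
    have h2 : k ≫ (mappingCocone.snd π).v p (p + -1) rfl = 0 := by
      have h := congrArg (· ≫ (mappingCocone.snd (𝟙 Q)).v p (p + -1) rfl) hk
      simp only [Category.assoc, zero_comp, coconeProj, coconeMap_snd] at h
      simpa using h
    obtain ⟨l, hl⟩ := KernelFork.IsLimit.lift' (hp p).fIsKernel _ h1
    refine ⟨l, cocone_ext_to π p ?_ ?_⟩
    · show (l ≫ (toCocone ψ π w).f p) ≫ _ = _
      rw [Category.assoc, toCocone_fst]
      exact hl
    · show (l ≫ (toCocone ψ π w).f p) ≫ _ = _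
      rw [Category.assoc, toCocone_snd, comp_zero]
      exact h2.symm
  refine ⟨fun n => ?_⟩
  rw [quasiIsoAt_iff_isIso_homologyMap]
  have hz := isZero_homology_cocone_id Q
  haveI : Mono (HomologicalComplex.homologyMap (toCocone ψ π w) n) :=
    (hT.homology_exact₁ (n - 1) n (by simp)).mono_g ((hz _).eq_of_src _ _)
  haveI : Epi (HomologicalComplex.homologyMap (toCocone ψ π w) n) :=
    (hT.homology_exact₂ n).epi_f ((hz _).eq_of_tgt _ _)
  exact isIso_of_mono_of_epi _

end Abstract

variable (C : Type u) [Category.{v} C] [Abelian C] [IsGrothendieckAbelian.{w} C]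

/-- termwise injective hulls with zero differentials -/
noncomputable def hullTerms : CochainComplex C ℤ ⥤ CochainComplex C ℤ where
  obj K := { X := fun n => (injFunctor C).obj (K.X n), d := fun _ _ => 0 }
  map f := { f := fun n => (injFunctor C).map (f.f n), comm' := fun i j _ => by simp }

variable {C}

/-- the embedding into a contractible complex of injectives -/
noncomputable def hullι (K : CochainComplex C ℤ) : K ⟶ mappingCone (𝟙 ((hullTerms C).obj K)) :=
  mappingCone.lift _
    (Cocycle.mk (Cochain.mk (fun p q _ => K.d p q ≫ (injEmb C).app _)) 2 (by lia) (by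
      ext p q hpq
      simp [hullTerms, δ_v 1 2 (by lia) _ p q hpq (p + 1) (p + 1) (by lia) rfl]))
    (Cochain.ofHoms (fun n => (injEmb C).app _)) (by
      ext p q hpq
      simp [hullTerms, δ_v 0 1 (by lia) _ p q hpq p q (by lia) (by lia)])

theorem hullι_snd (K : CochainComplex C ℤ) (n : ℤ) :
    (hullι K).f n ≫ (mappingCone.snd _).v n n (add_zero n) = (injEmb C).app (K.X n) := by
  simp [hullι]

theorem hullι_fst (K : CochainComplex C ℤ) (p q : ℤ) (h : p + 1 = q) :
    (hullι K).f p ≫ (mappingCone.fst _).1.v p q h = K.d p q ≫ (injEmb C).app (K.X q) := by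
  simp [hullι]

instance mono_hullι_f (K : CochainComplex C ℤ) (n : ℤ) : Mono ((hullι K).f n) :=
  mono_of_mono_fac (hullι_snd K n)

instance injective_hull_X (K : CochainComplex C ℤ) (n : ℤ) :
    Injective ((mappingCone (𝟙 ((hullTerms C).obj K))).X n) :=
  haveI : ∀ m, Injective (((hullTerms C).obj K).X m) := fun m => injective_injFunctor C (K.X m)
  Injective.of_iso (HomologicalComplex.homotopyCofiber.XIsoBiprod (𝟙 _) n (n + 1) rfl).symm inferInstance

/-- functoriality of the hull -/
noncomputable def hullMap {K L : CochainComplex C ℤ} (f : K ⟶ L) :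
    mappingCone (𝟙 ((hullTerms C).obj K)) ⟶ mappingCone (𝟙 ((hullTerms C).obj L)) :=
  mappingCone.map _ _ ((hullTerms C).map f) ((hullTerms C).map f) (by simp)

theorem hullMap_fst {K L : CochainComplex C ℤ} (f : K ⟶ L) (p q : ℤ) (h : p + 1 = q) :
    (hullMap f).f p ≫ (mappingCone.fst _).1.v p q h =
      (mappingCone.fst _).1.v p q h ≫ (injFunctor C).map (f.f q) := by
  rw [mappingCone.ext_from_iff _ q p h]
  refine ⟨?_, ?_⟩ <;> simp [hullMap, mappingCone.map, hullTerms]

theorem hullMap_snd {K L : CochainComplex C ℤ} (f : K ⟶ L) (p : ℤ) :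
    (hullMap f).f p ≫ (mappingCone.snd _).v p p (add_zero p) =
      (mappingCone.snd _).v p p (add_zero p) ≫ (injFunctor C).map (f.f p) := by
  rw [mappingCone.ext_from_iff _ (p + 1) p rfl]
  refine ⟨?_, ?_⟩ <;> simp [hullMap, mappingCone.map, hullTerms]

@[reassoc]
theorem hullι_naturality {K L : CochainComplex C ℤ} (f : K ⟶ L) : hullι K ≫ hullMap f = f ≫ hullι L := by
  ext p
  rw [mappingCone.ext_to_iff _ p (p + 1) rfl]
  refine ⟨?_, ?_⟩
  · rw [HomologicalComplex.comp_f, HomologicalComplex.comp_f, Category.assoc, Category.assoc, hullMap_fst,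
      hullι_fst, reassoc_of% hullι_fst, ← (injEmb C).naturality (f.f (p + 1)), f.comm_assoc]
    rfl
  · rw [HomologicalComplex.comp_f, HomologicalComplex.comp_f, Category.assoc, Category.assoc, hullMap_snd,
      hullι_snd, reassoc_of% hullι_snd, ← (injEmb C).naturality (f.f p)]
    rfl

/-- the quotient of the hull -/
noncomputable abbrev hullQ (K : CochainComplex C ℤ) : mappingCone (𝟙 ((hullTerms C).obj K)) ⟶ cokernel (hullι K) :=
  cokernel.π (hullι K)

/-- functoriality of the quotient -/
noncomputable def hullQMap {K L : CochainComplex C ℤ} (f : K ⟶ L) : cokernel (hullι K) ⟶ cokernel (hullι L) :=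
  cokernel.map (hullι K) (hullι L) f (hullMap f) (hullι_naturality f)

theorem hullQ_map {K L : CochainComplex C ℤ} (f : K ⟶ L) : hullQ K ≫ hullQMap f = hullMap f ≫ hullQ L :=
  cokernel.π_desc _ _ _

theorem hullMap_id (K : CochainComplex C ℤ) : hullMap (𝟙 K) = 𝟙 _ := by
  ext p
  rw [mappingCone.ext_to_iff _ p (p + 1) rfl]
  refine ⟨?_, ?_⟩
  · rw [hullMap_fst, HomologicalComplex.id_f, (injFunctor C).map_id]
    exact (Category.comp_id _).trans (Category.id_comp _).symm
  · rw [hullMap_snd, HomologicalComplex.id_f, (injFunctor C).map_id]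
    exact (Category.comp_id _).trans (Category.id_comp _).symm

theorem hullMap_comp {K L N : CochainComplex C ℤ} (f : K ⟶ L) (g : L ⟶ N) :
    hullMap (f ≫ g) = hullMap f ≫ hullMap g := by
  ext p
  rw [mappingCone.ext_to_iff _ p (p + 1) rfl]
  refine ⟨?_, ?_⟩
  · rw [hullMap_fst, HomologicalComplex.comp_f, HomologicalComplex.comp_f, (injFunctor C).map_comp, Category.assoc,
      hullMap_fst, reassoc_of% hullMap_fst]
  · rw [hullMap_snd, HomologicalComplex.comp_f, HomologicalComplex.comp_f, (injFunctor C).map_comp, Category.assoc,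
      hullMap_snd, reassoc_of% hullMap_snd]

variable (C)

/-- the functorial embedding -/
noncomputable def hullFunctor : CochainComplex C ℤ ⥤ CochainComplex C ℤ where
  obj K := mappingCocone (hullQ K)
  map f := coconeMap _ _ (hullMap f) (hullQMap f) (hullQ_map f)
  map_id K := cocone_hom_ext _ (by rw [coconeMap_fst, hullMap_id]; simp) fun p => by
    rw [coconeMap_snd]
    simp [hullQMap, hullMap_id]
  map_comp f g := cocone_hom_ext _
    (by rw [Category.assoc, coconeMap_fst, coconeMap_fst, reassoc_of% coconeMap_fst, hullMap_comp]) fun p => by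
    rw [HomologicalComplex.comp_f, Category.assoc, coconeMap_snd, coconeMap_snd, reassoc_of% coconeMap_snd,
      ← HomologicalComplex.comp_f]
    congr 2
    apply coequalizer.hom_ext
    simp [hullQMap, hullMap_comp]

/-- the embedding -/
noncomputable def hullUnit : 𝟭 (CochainComplex C ℤ) ⟶ hullFunctor C where
  app K := toCocone (hullι K) (hullQ K) (cokernel.condition _)
  naturality K L f := cocone_hom_ext _ (by
    ext p
    show ((f.f p ≫ (toCocone _ _ (cokernel.condition (hullι L))).f p) ≫ _) =
      (((toCocone _ _ (cokernel.condition (hullι K))).f p) ≫ (coconeMap _ _ _ _ (hullQ_map f)).f p) ≫ _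
    have e := HomologicalComplex.congr_hom (coconeMap_fst _ _ _ _ (hullQ_map f)) p
    simp only [HomologicalComplex.comp_f] at e
    rw [Category.assoc, toCocone_fst, Category.assoc, e, reassoc_of% toCocone_fst, ← HomologicalComplex.comp_f,
      ← HomologicalComplex.comp_f, hullι_naturality]) fun p => by
    show ((f.f p ≫ (toCocone _ _ (cokernel.condition (hullι L))).f p) ≫ _) =
      (((toCocone _ _ (cokernel.condition (hullι K))).f p) ≫ (coconeMap _ _ _ _ (hullQ_map f)).f p) ≫ _
    rw [Category.assoc, toCocone_snd, Category.assoc, coconeMap_snd, reassoc_of% toCocone_snd]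
    simp

theorem exists_hull : ∃ (N : CochainComplex C ℤ ⥤ CochainComplex C ℤ) (j : 𝟭 _ ⟶ N), ∀ M : CochainComplex C ℤ,
    (∀ n : ℤ, Mono ((j.app M).f n)) ∧ QuasiIso (j.app M) ∧
      ∀ n : ℤ, ∃ (I : C) (_ : Injective I) (a : M.X n ⟶ I) (b : I ⟶ (N.obj M).X n), Mono b ∧
        a ≫ b = (j.app M).f n := by
  refine ⟨hullFunctor C, hullUnit C, fun M => ⟨fun n => mono_toCocone_f (hullι M) (hullQ M) (cokernel.condition _) n, ?_, fun n => ?_⟩⟩
  · haveI : Mono (hullι M) := HomologicalComplex.mono_of_mono_f _ inferInstance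
    exact quasiIso_toCocone (hullι M) (hullQ M) (cokernel.condition _) { exact := ShortComplex.exact_cokernel (hullι M) }
  · refine ⟨_, injective_hull_X M n, (hullι M).f n, (mappingCocone.inl (hullQ M)).v n n (add_zero n),
      mono_of_mono_fac (mappingCocone.inl_v_fst_f (hullQ M) n), ?_⟩
    refine cocone_ext_to _ n ?_ ?_
    · show _ = (toCocone _ _ (cokernel.condition (hullι M))).f n ≫ _
      rw [Category.assoc, mappingCocone.inl_v_fst_f, toCocone_fst, Category.comp_id]
    · show _ = (toCocone _ _ (cokernel.condition (hullι M))).f n ≫ _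
      rw [Category.assoc, mappingCocone.inl_v_snd_v, toCocone_snd, comp_zero]

end Groth.Agent.CohDerGen
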