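import Mathlib

/-!
# Functorial injective embeddings in a Grothendieck abelian category
-/

set_option autoImplicit false

universe w v u

open CategoryTheory CategoryTheory.Limits MorphismProperty ZeroObject

namespace Groth.Agent.CohDerGen

variable (C : Type u) [Category.{v} C] [Abelian C] [IsGrothendieckAbelian.{w} C]

/-- the arrow to zero -/
noncomputable def toZeroArrow : C ⥤ Arrow C where
  obj X := Arrow.mk (0 : X ⟶ (0 : C))
  map f := Arrow.homMk f (𝟙 _) ((isZero_zero C).eq_of_tgt _ _)

/-- functorial injective hulls -/
noncomputable def injFunctor : C ⥤ C :=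
  toZeroArrow C ⋙ (functorialFactorizationData (monomorphisms C) (monomorphisms C).rlp).Z

/-- the embedding -/
noncomputable def injEmb : 𝟭 C ⟶ injFunctor C :=
  { app := fun X => (functorialFactorizationData (monomorphisms C) (monomorphisms C).rlp).i.app ((toZeroArrow C).obj X)
    naturality := fun X Y f =>
      (functorialFactorizationData (monomorphisms C) (monomorphisms C).rlp).i.naturality ((toZeroArrow C).map f) }

instance mono_injEmb (X : C) : Mono ((injEmb C).app X) :=
  (functorialFactorizationData (monomorphisms C) (monomorphisms C).rlp).hi (Arrow.mk (0 : X ⟶ (0 : C)))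

instance injective_injFunctor (X : C) : Injective ((injFunctor C).obj X) := by
  let D := functorialFactorizationData (monomorphisms C) (monomorphisms C).rlp
  have h := D.hp (Arrow.mk (0 : X ⟶ (0 : C)))
  rw [injective_iff_rlp_monomorphisms_zero]
  exact (isZero_zero C).eq_of_tgt (D.p.app (Arrow.mk (0 : X ⟶ (0 : C)))) 0 ▸ h

end Groth.Agent.CohDerGen
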