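import Mathlib

/-!
# The degree zero cohomology functor of a t-structure is homological (BBD 1.3.6)
-/

set_option autoImplicit false
set_option linter.style.haveILetI false
universe v u v' u'

open CategoryTheory CategoryTheory.Limits CategoryTheory.Pretriangulated CategoryTheory.Triangulated

namespace Groth.Agent.CohDerGen.HeartHom

variable {C : Type u} [Category.{v} C] [Preadditive C] [HasZeroObject C] [HasShift C ℤ]
  [∀ n : ℤ, (shiftFunctor C n).Additive] [Pretriangulated C] [IsTriangulated C] (t : TStructure C)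

/-- A triangle whose third object is `≥ 0` stays distinguished after applying `τ≥0`. -/
theorem exists_triangle_GE {X Y Z : C} (f : X ⟶ Y) (g : Y ⟶ Z) (h : Z ⟶ X⟦(1 : ℤ)⟧)
    (hT : Triangle.mk f g h ∈ distTriang C) [t.IsGE Z 0] :
    ∃ (m : (t.truncGE 0).obj Y ⟶ Z) (d : Z ⟶ ((t.truncGE 0).obj X)⟦(1 : ℤ)⟧),
      Triangle.mk ((t.truncGE 0).map f) m d ∈ distTriang C := by
  haveI hiso : IsIso (C := C) (X := (t.truncLT 0).obj X) (Y := (t.truncLT 0).obj Y) ((t.truncLT 0).map f) :=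
    t.isIso₁_truncLT_map_of_isGE (Triangle.mk f g h) hT 0 (inferInstanceAs (t.IsGE Z 0))
  have hY : Triangle.mk ((t.truncLTι 0).app X ≫ f) ((t.truncGEπ 0).app Y)
      ((t.truncGEδLT 0).app Y ≫ (inv ((t.truncLT 0).map f))⟦(1 : ℤ)⟧') ∈ distTriang C := by
    refine isomorphic_distinguished _ (t.triangleLTGE_distinguished 0 Y) _ ?_
    refine Triangle.isoMk _ _ (@asIso _ _ _ _ ((t.truncLT 0).map f) hiso) (Iso.refl _) (Iso.refl _) ?_ ?_ ?_
    · exact (Category.comp_id _).trans ((t.truncLTι 0).naturality f).symm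
    · exact (Category.comp_id _).trans (Category.id_comp _).symm
    · show ((t.truncGEδLT 0).app Y ≫ (inv ((t.truncLT 0).map f))⟦(1 : ℤ)⟧') ≫ ((t.truncLT 0).map f)⟦(1 : ℤ)⟧' =
        𝟙 _ ≫ (t.truncGEδLT 0).app Y
      rw [Category.assoc, ← Functor.map_comp, IsIso.inv_hom_id, CategoryTheory.Functor.map_id, Category.id_comp]
      exact Category.comp_id _
  let o := Triangulated.someOctahedron rfl (t.triangleLTGE_distinguished 0 X) hT hY
  have hm : o.m₁ = (t.truncGE 0).map f :=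
    t.from_truncGE_obj_ext (o.comm₁.trans ((t.truncGEπ 0).naturality f))
  exact ⟨o.m₃, _, hm ▸ o.mem⟩

/-- A triangle whose first object is `≤ 0` stays distinguished after applying `τ≤0`. -/
theorem exists_triangle_LE {X Y Z : C} (f : X ⟶ Y) (g : Y ⟶ Z) (h : Z ⟶ X⟦(1 : ℤ)⟧)
    (hT : Triangle.mk f g h ∈ distTriang C) [t.IsLE X 0] :
    ∃ (m : X ⟶ (t.truncLE 0).obj Y) (d : (t.truncLE 0).obj Z ⟶ X⟦(1 : ℤ)⟧),
      (t.truncLEι 0).app X ≫ m = (t.truncLE 0).map f ∧
      Triangle.mk m ((t.truncLE 0).map g) d ∈ distTriang C := by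
  haveI : IsIso ((t.truncGT 0).map g) := t.isIso₂_truncGT_map_of_isLE (Triangle.mk f g h) hT 0 (inferInstanceAs (t.IsLE X 0))
  have hY : Triangle.mk ((t.truncLEι 0).app Y) (g ≫ (t.truncGTπ 0).app Z)
      (inv ((t.truncGT 0).map g) ≫ (t.truncGTδLE 0).app Y) ∈ distTriang C := by
    refine isomorphic_distinguished _ (t.triangleLEGT_distinguished 0 Y) _ ?_
    refine Triangle.isoMk _ _ (Iso.refl _) (Iso.refl _) (asIso ((t.truncGT 0).map g)).symm ?_ ?_ ?_
    · exact (Category.comp_id _).trans (Category.id_comp _).symm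
    · show (g ≫ (t.truncGTπ 0).app Z) ≫ inv ((t.truncGT 0).map g) = 𝟙 _ ≫ (t.truncGTπ 0).app Y
      rw [Category.id_comp, IsIso.comp_inv_eq]
      exact (t.truncGTπ 0).naturality g
    · show (inv ((t.truncGT 0).map g) ≫ (t.truncGTδLE 0).app Y) ≫ (shiftFunctor C (1 : ℤ)).map (𝟙 _) =
        inv ((t.truncGT 0).map g) ≫ (t.truncGTδLE 0).app Y
      rw [CategoryTheory.Functor.map_id]
      exact Category.comp_id _
  let o := Triangulated.someOctahedron' rfl hT (t.triangleLEGT_distinguished 0 Z) hY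
  have hm : o.m₃ = (t.truncLE 0).map g :=
    t.to_truncLE_obj_ext (o.comm₄.trans ((t.truncLEι 0).naturality g).symm)
  refine ⟨o.m₁, _, t.to_truncLE_obj_ext ?_, hm ▸ o.mem⟩
  rw [Category.assoc]
  exact (congrArg ((t.truncLEι 0).app X ≫ ·) o.comm₁).trans ((t.truncLEι 0).naturality f).symm

variable {H : Type u'} [Category.{v'} H] [Abelian H] [t.Heart H] {H0 : C ⥤ H}
  (e : H0 ⋙ t.ιHeart ≅ t.truncGE 0 ⋙ t.truncLE 0)

/-- The map `Hom(A, H⁰X) → Hom(ιA, τ≥0 X)`. -/
noncomputable def toGE {A : H} {X : C} (x : A ⟶ H0.obj X) : t.ιHeart.obj A ⟶ (t.truncGE 0).obj X :=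
  t.ιHeart.map x ≫ e.hom.app X ≫ (t.truncLEι 0).app ((t.truncGE 0).obj X)

theorem toGE_injective {A : H} {X : C} : Function.Injective (toGE t e (A := A) (X := X)) := by
  intro x x' h
  simp only [toGE, ← Category.assoc] at h
  have h' := t.to_truncLE_obj_ext h
  exact t.ιHeart.map_injective ((cancel_mono (e.hom.app X)).1 h')

theorem toGE_comp {A : H} {X Y : C} (f : X ⟶ Y) (x : A ⟶ H0.obj X) :
    toGE t e (x ≫ H0.map f) = toGE t e x ≫ (t.truncGE 0).map f := by
  have h1 := e.hom.naturality f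
  dsimp only [Functor.comp_map, Functor.comp_obj] at h1
  simp only [toGE, Functor.map_comp, Category.assoc]
  rw [reassoc_of% h1]
  congr 2
  exact (t.truncLEι 0).naturality _

/-- The map `Hom(H⁰X, A) → Hom(τ≤0 X, ιA)`. -/
noncomputable def fromLE {A : H} {X : C} (q : H0.obj X ⟶ A) : (t.truncLE 0).obj X ⟶ t.ιHeart.obj A :=
  (t.truncGEπ 0).app ((t.truncLE 0).obj X) ≫ ((t.truncGELEIsoLEGE 0 0).hom.app X ≫ e.inv.app X) ≫ t.ιHeart.map q

theorem fromLE_injective {A : H} {X : C} : Function.Injective (fromLE t e (A := A) (X := X)) := by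
  intro q q' h
  simp only [fromLE] at h
  have h' := t.from_truncGE_obj_ext h
  exact t.ιHeart.map_injective
    ((cancel_epi ((t.truncGELEIsoLEGE 0 0).hom.app X ≫ e.inv.app X)).1 h')

theorem fromLE_surjective {A : H} {X : C} : Function.Surjective (fromLE t e (A := A) (X := X)) := fun p => by
  refine ⟨t.ιHeart.preimage (e.hom.app X ≫ (t.truncGELEIsoLEGE 0 0).inv.app X ≫ t.descTruncGE p 0), ?_⟩
  simp only [fromLE, Functor.map_preimage, Category.assoc, Iso.inv_hom_id_app_assoc]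
  erw [Iso.hom_inv_id_app_assoc]
  exact t.π_descTruncGE p 0

theorem fromLE_comp {A : H} {X Y : C} (f : X ⟶ Y) (q : H0.obj Y ⟶ A) :
    fromLE t e (H0.map f ≫ q) = (t.truncLE 0).map f ≫ fromLE t e q := by
  have h1 := e.inv.naturality f
  have h2 := (t.truncGELEIsoLEGE 0 0).hom.naturality f
  have h3 := (t.truncGEπ 0).naturality ((t.truncLE 0).map f)
  dsimp only [Functor.comp_map, Functor.comp_obj, Functor.id_map, Functor.id_obj] at h1 h2 h3
  simp only [fromLE, Functor.map_comp, Category.assoc]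
  rw [reassoc_of% h3, reassoc_of% h2, reassoc_of% h1]

include e in
theorem preservesZeroMorphisms : H0.PreservesZeroMorphisms := ⟨fun X Y => by
  apply t.ιHeart.map_injective
  rw [← cancel_mono (e.hom.app Y)]
  have h1 := e.hom.naturality (0 : X ⟶ Y)
  dsimp only [Functor.comp_map, Functor.comp_obj] at h1
  rw [h1]
  simp⟩

theorem toGE_zero {A : H} {X : C} : toGE t e (0 : A ⟶ H0.obj X) = 0 := by simp [toGE]

theorem fromLE_zero {A : H} {X : C} : fromLE t e (0 : H0.obj X ⟶ A) = 0 := by simp [fromLE]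

include e in
theorem mono_map {X Y Z : C} (f : X ⟶ Y) (g : Y ⟶ Z) (h : Z ⟶ X⟦(1 : ℤ)⟧)
    (hT : Triangle.mk f g h ∈ distTriang C) [t.IsGE Z 0] : Mono (H0.map f) := by
  obtain ⟨m, d, hm⟩ := exists_triangle_GE t f g h hT
  refine Preadditive.mono_of_cancel_zero _ fun {A} x hx => toGE_injective t e ?_
  have h0 : toGE t e x ≫ (t.truncGE 0).map f = 0 := by rw [← toGE_comp, hx, toGE_zero]
  obtain ⟨y, hy⟩ := Triangle.coyoneda_exact₂ _ (inv_rot_of_distTriang _ hm) (toGE t e x) h0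
  haveI : t.IsGE ((Triangle.mk ((t.truncGE 0).map f) m d).invRotate.obj₁) 1 :=
    t.isGE_shift Z 0 (-1) 1
  rw [hy, t.zero_of_isLE_of_isGE y 0 1 (by omega) inferInstance inferInstance, zero_comp, toGE_zero]
  rfl

include e in
theorem exact_of_LE [H0.PreservesZeroMorphisms] {X Y Z : C} (f : X ⟶ Y) (g : Y ⟶ Z) (h : Z ⟶ X⟦(1 : ℤ)⟧)
    (hT : Triangle.mk f g h ∈ distTriang C) [t.IsLE X 0] :
    ((shortComplexOfDistTriangle _ hT).map H0).Exact := by
  obtain ⟨m, d, hm1, hm⟩ := exists_triangle_LE t f g h hT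
  rw [ShortComplex.exact_iff_kernel_ι_comp_cokernel_π_zero]
  have hq : H0.map f ≫ cokernel.π (H0.map f) = 0 := cokernel.condition _
  have h0 : m ≫ fromLE t e (cokernel.π (H0.map f)) = 0 := by
    rw [← cancel_epi ((t.truncLEι 0).app X), ← Category.assoc, hm1, ← fromLE_comp, hq, fromLE_zero, comp_zero]
  obtain ⟨p, hp⟩ := Triangle.yoneda_exact₂ _ hm _ h0
  obtain ⟨q, rfl⟩ := fromLE_surjective t e p
  have hq2 : cokernel.π (H0.map f) = H0.map g ≫ q := fromLE_injective t e (hp.trans (fromLE_comp t e g q).symm)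
  show kernel.ι (H0.map g) ≫ cokernel.π (H0.map f) = 0
  rw [hq2, kernel.condition_assoc, zero_comp]

include e in
theorem exact_all {X Y Z : C} (f : X ⟶ Y) (g : Y ⟶ Z) (h : Z ⟶ X⟦(1 : ℤ)⟧)
    (hT : Triangle.mk f g h ∈ distTriang C) ⦃A : H⦄ (x : A ⟶ H0.obj Y) (hx : x ≫ H0.map g = 0) :
    ∃ (A' : H) (π : A' ⟶ A) (_ : Epi π) (x1 : A' ⟶ H0.obj X), π ≫ x = x1 ≫ H0.map f := by
  haveI := preservesZeroMorphisms t e
  let ι : (t.truncLE 0).obj X ⟶ X := (t.truncLEι 0).app X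
  obtain ⟨U, v, w, hU⟩ := distinguished_cocone_triangle (ι ≫ f)
  let o := Triangulated.someOctahedron rfl (t.triangleLEGT_distinguished 0 X) hT hU
  haveI : t.IsGE ((t.truncGT 0).obj X) 1 := t.isGE_truncGT_obj X 0 1
  haveI : t.IsGE (((t.truncGT 0).obj X)⟦(1 : ℤ)⟧) 0 := t.isGE_shift _ 1 1 0
  haveI : Mono (H0.map o.m₃) :=
    @mono_map _ _ _ _ _ _ _ _ t _ _ _ _ _ e _ _ _ o.m₃ _ _ (rot_of_distTriang _ o.mem)
      (inferInstanceAs (t.IsGE (((t.truncGT 0).obj X)⟦(1 : ℤ)⟧) 0))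
  have hE := exact_of_LE t e (ι ≫ f) v w hU
  rw [ShortComplex.exact_iff_exact_up_to_refinements] at hE
  have hv : v ≫ o.m₃ = g := o.comm₃
  have hx' : x ≫ H0.map v = 0 := by
    rw [← cancel_mono (H0.map o.m₃), Category.assoc, ← Functor.map_comp, hv, hx, zero_comp]
  obtain ⟨A', π, hπ, x1, h1⟩ :
      ∃ (A' : H) (π : A' ⟶ A) (_ : Epi π) (x1 : A' ⟶ H0.obj ((t.truncLE 0).obj X)),
        π ≫ x = x1 ≫ H0.map (ι ≫ f) := hE x hx'
  refine ⟨A', π, hπ, x1 ≫ H0.map ι, ?_⟩
  rw [Category.assoc, ← Functor.map_comp]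
  exact h1

include e in
theorem isHomological : H0.IsHomological := by
  haveI := preservesZeroMorphisms t e
  refine { exact := fun T hT => ?_ }
  rw [ShortComplex.exact_iff_exact_up_to_refinements]
  intro A x hx
  exact exact_all t e T.mor₁ T.mor₂ T.mor₃ hT x hx

end Groth.Agent.CohDerGen.HeartHom
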