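import Groth.Prelude.Def_SpSeq
import Mathlib

/-!
# Composites of strict morphisms of filtered objects
-/

set_option autoImplicit false

universe v u

open CategoryTheory CategoryTheory.Limits

namespace Groth.Agent.CohDerGen

variable {A : Type u} [Category.{v} A] [Abelian A]

theorem imageSubobject_epi_comp {X' X Y : A} (h : X' ⟶ X) [Epi h] (f : X ⟶ Y) :
    imageSubobject (h ≫ f) = imageSubobject f := by
  haveI : IsIso (Subobject.ofLE _ _ (imageSubobject_comp_le h f)) :=
    imageSubobject_comp_le_epi_of_epi h f |> fun _ => isIso_of_mono_of_epi _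
  exact le_antisymm (imageSubobject_comp_le h f)
    (Subobject.le_of_comm (inv (Subobject.ofLE _ _ (imageSubobject_comp_le h f)))
      (by rw [IsIso.inv_comp_eq, Subobject.ofLE_arrow]))

theorem imageSubobject_eq_top_of_epi {X Y : A} (f : X ⟶ Y) [Epi f] : imageSubobject f = ⊤ := by
  haveI : Epi (imageSubobject f).arrow := epi_of_epi_fac (imageSubobject_arrow_comp f)
  haveI : IsIso (imageSubobject f).arrow := isIso_of_mono_of_epi _
  exact Subobject.eq_top_of_isIso_arrow _

theorem imageSubobject_comp_eq {X Y Z : A} (f : X ⟶ Y) (g : Y ⟶ Z) :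
    imageSubobject (f ≫ g) = imageSubobject ((imageSubobject f).arrow ≫ g) := by
  conv_lhs => rw [← imageSubobject_arrow_comp f, Category.assoc]
  exact imageSubobject_epi_comp _ _

variable {K L M : SpSeq.FilObj A} (f : K ⟶ L) (g : L ⟶ M)

theorem isStrict_comp_of_epi (hf : SpSeq.FilObj.IsStrict f) (hg : SpSeq.FilObj.IsStrict g) [Epi f.hom] :
    SpSeq.FilObj.IsStrict (f ≫ g) := fun p => by
  show imageSubobject ((K.fil p).arrow ≫ f.hom ≫ g.hom) = imageSubobject (f.hom ≫ g.hom) ⊓ M.fil p
  have hKL : imageSubobject ((K.fil p).arrow ≫ f.hom) = L.fil p := by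
    rw [hf p, imageSubobject_eq_top_of_epi f.hom, top_inf_eq]
  rw [← Category.assoc, imageSubobject_comp_eq, hKL, hg p, imageSubobject_epi_comp]

theorem isStrict_comp_of_mono (hf : SpSeq.FilObj.IsStrict f) (hg : SpSeq.FilObj.IsStrict g) [Mono g.hom] :
    SpSeq.FilObj.IsStrict (f ≫ g) := fun p => by
  show imageSubobject ((K.fil p).arrow ≫ f.hom ≫ g.hom) = imageSubobject (f.hom ≫ g.hom) ⊓ M.fil p
  rw [← Category.assoc, imageSubobject_comp_eq, hf p, imageSubobject_comp_eq f.hom g.hom]
  let I := imageSubobject f.hom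
  let P := I ⊓ L.fil p
  refine le_antisymm (le_inf ?_ ?_) ?_
  · refine imageSubobject_le (P.arrow ≫ g.hom)
      (P.ofLE I inf_le_left ≫ factorThruImageSubobject (I.arrow ≫ g.hom)) ?_
    rw [Category.assoc, imageSubobject_arrow_comp, ← Category.assoc, Subobject.ofLE_arrow]
  · have h2 : imageSubobject ((L.fil p).arrow ≫ g.hom) ≤ M.fil p := by rw [hg p]; exact inf_le_right
    refine le_trans ?_ h2
    refine imageSubobject_le (P.arrow ≫ g.hom)
      (P.ofLE (L.fil p) inf_le_right ≫ factorThruImageSubobject ((L.fil p).arrow ≫ g.hom)) ?_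
    rw [Category.assoc, imageSubobject_arrow_comp, ← Category.assoc, Subobject.ofLE_arrow]
  · let B := imageSubobject (I.arrow ≫ g.hom) ⊓ M.fil p
    have hB2 : B ≤ imageSubobject ((L.fil p).arrow ≫ g.hom) := by
      rw [hg p]
      exact le_inf (inf_le_left.trans (imageSubobject_comp_le _ _)) inf_le_right
    have hb : ∀ S : Subobject L.obj, B ≤ imageSubobject (S.arrow ≫ g.hom) →
        ∃ a : (B : A) ⟶ (S : A), a ≫ S.arrow ≫ g.hom = B.arrow := fun S hS => by
      haveI := mono_of_mono_fac (imageSubobject_arrow_comp (S.arrow ≫ g.hom))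
      haveI : IsIso (factorThruImageSubobject (S.arrow ≫ g.hom)) := isIso_of_mono_of_epi _
      refine ⟨B.ofLE _ hS ≫ inv (factorThruImageSubobject (S.arrow ≫ g.hom)), ?_⟩
      have e : inv (factorThruImageSubobject (S.arrow ≫ g.hom)) ≫ S.arrow ≫ g.hom =
          (imageSubobject (S.arrow ≫ g.hom)).arrow := by
        rw [IsIso.inv_comp_eq, imageSubobject_arrow_comp]
      rw [Category.assoc, e, Subobject.ofLE_arrow]
    obtain ⟨a, ha⟩ := hb I inf_le_left
    obtain ⟨b, hb'⟩ := hb (L.fil p) hB2
    have hab : a ≫ I.arrow = b ≫ (L.fil p).arrow := (cancel_mono g.hom).1 (by simp only [Category.assoc, ha, hb'])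
    have hP : P.Factors (a ≫ I.arrow) :=
      (Subobject.inf_factors _).2 ⟨Subobject.factors_comp_arrow _, hab ▸ Subobject.factors_comp_arrow _⟩
    refine Subobject.le_of_comm (P.factorThru _ hP ≫ factorThruImageSubobject (P.arrow ≫ g.hom)) ?_
    rw [Category.assoc, imageSubobject_arrow_comp, ← Category.assoc, Subobject.factorThru_arrow, Category.assoc, ha]

end Groth.Agent.CohDerGen
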