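import Mathlib

/-!
# A classical generator of a category with a strong generator is strong
-/

set_option autoImplicit false

open CategoryTheory CategoryTheory.Limits Pretriangulated

namespace Groth.Agent.CohDerGen

variable {C : Type*} [Category* C] [HasZeroObject C] [HasShift C ℤ] [Preadditive C]
  [∀ (n : ℤ), (shiftFunctor C n).Additive] [Pretriangulated C]

instance binProd_extensionProduct (P Q : ObjectProperty C) [P.IsClosedUnderBinaryProducts]
    [Q.IsClosedUnderBinaryProducts] : (ObjectProperty.extensionProduct P Q).IsClosedUnderBinaryProducts := by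
  refine ObjectProperty.IsClosedUnderLimitsOfShape.mk' ?_
  rintro _ ⟨F, hF⟩
  have hF' : ∀ j, ObjectProperty.extensionProduct P Q (F.obj ⟨j⟩) := fun j => hF ⟨j⟩
  choose Y Z f g h hT hP hQ using hF'
  let T : WalkingPair → Triangle C := fun j => Triangle.mk (f j) (g j) (h j)
  have hd := Pretriangulated.productTriangle_distinguished T hT
  have hlim : ObjectProperty.extensionProduct P Q (∏ᶜ fun j => F.obj ⟨j⟩) :=
    ⟨_, _, _, _, _, hd, P.prop_pi _ hP, Q.prop_pi _ hQ⟩
  exact (ObjectProperty.extensionProduct P Q).prop_of_iso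
    (HasLimit.isoOfNatIso (Discrete.natIsoFunctor (F := F))).symm hlim

instance binProd_retractClosure (P : ObjectProperty C) [P.IsClosedUnderBinaryProducts] :
    P.retractClosure.IsClosedUnderBinaryProducts := by
  refine ObjectProperty.IsClosedUnderLimitsOfShape.mk' ?_
  rintro _ ⟨F, hF⟩
  have hF' : ∀ j, P.retractClosure (F.obj ⟨j⟩) := fun j => hF ⟨j⟩
  choose Y hY r using hF'
  have hlim : P.retractClosure (∏ᶜ fun j => F.obj ⟨j⟩) :=
    ⟨∏ᶜ Y, P.prop_pi _ hY, ⟨{ i := Limits.Pi.map fun j => (r j).some.i, r := Limits.Pi.map fun j => (r j).some.r }⟩⟩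
  exact P.retractClosure.prop_of_iso (HasLimit.isoOfNatIso (Discrete.natIsoFunctor (F := F))).symm hlim

theorem binProd_iter (P : ObjectProperty C) [P.IsClosedUnderBinaryProducts] (n : ℕ) :
    (P.extensionProductIter n).IsClosedUnderBinaryProducts := by
  induction n with
  | zero => rwa [ObjectProperty.extensionProductIter_zero]
  | succ n h => rw [ObjectProperty.extensionProductIter_succ]; infer_instance

theorem binProd_triangEnvelopeIter (P : ObjectProperty C) (n : ℕ) :
    (P.triangEnvelopeIter n).IsClosedUnderBinaryProducts :=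
  haveI := binProd_iter (P.shiftClosure ℤ).binaryProductsClosure.retractClosure n
  binProd_retractClosure _

variable [IsTriangulated C]

theorem isStrongTriangulatedGenerator_of_classical (G E : ObjectProperty C) [G.Nonempty] [E.Nonempty]
    (k : ℕ) (hk : G ≤ E.triangEnvelopeIter k) (hG : G.IsStrongTriangulatedGenerator) :
    E.IsStrongTriangulatedGenerator := by
  haveI := binProd_triangEnvelopeIter E k
  have h0 : G.triangEnvelopeIter 0 ≤ E.triangEnvelopeIter k := by
    rw [ObjectProperty.triangEnvelopeIter_zero, ObjectProperty.retractClosure_le_iff,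
      ObjectProperty.binaryProductsClosure_le_iff, ObjectProperty.shiftClosure_le_iff]
    exact hk
  have key : ∀ n, ∃ m, G.triangEnvelopeIter n ≤ E.triangEnvelopeIter m := by
    intro n
    induction n with
    | zero => exact ⟨k, h0⟩
    | succ n ih =>
      obtain ⟨m, hm⟩ := ih
      refine ⟨k + (m + 1), ?_⟩
      rw [ObjectProperty.triangEnvelopeIter_succ, ObjectProperty.triangEnvelopeIter_add' E rfl]
      rw [ObjectProperty.triangEnvelopeIter_zero] at h0
      exact ObjectProperty.monotone_retractClosure
        (fun X ⟨Y, Z, f, g, h, hT, hY, hZ⟩ => ⟨Y, Z, f, g, h, hT, h0 _ hY, hm _ hZ⟩)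
  obtain ⟨n, hn⟩ := hG
  obtain ⟨m, hm⟩ := key n
  exact ⟨m, eq_top_iff.2 (hn ▸ hm)⟩

end Groth.Agent.CohDerGen
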